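import Groth.Prelude.Def_Coh
import Mathlib.AlgebraicGeometry.Morphisms.Etale
import Mathlib.Algebra.TrivSqZeroExt.Basic
import Mathlib.RingTheory.Derivation.Basic
import Mathlib.RingTheory.Smooth.Basic
import Mathlib.RingTheory.RingHom.Etale

/-!
Derivations extend along etale maps and act on coherent cohomology.
-/

set_option autoImplicit false
set_option linter.style.haveILetI false

universe u

open CategoryTheory AlgebraicGeometry Opposite TopologicalSpace

noncomputable section

namespace Groth.Agent.Lib.DerOp51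

section Ring

variable {A B C : Type u} [CommRing A] [CommRing B] [CommRing C]

/-- A derivation killing the base of a formally unramified algebra vanishes. -/
theorem eq_zero [Algebra A B] [Algebra.FormallyUnramified A B] (ρ : B →+* C) (δ : B →+ C)
    (hmul : ∀ b b', δ (b * b') = ρ b * δ b' + ρ b' * δ b) (hA : ∀ a, δ (algebraMap A B a) = 0) :
    δ = 0 := by
  letI : Algebra B C := ρ.toAlgebra
  letI : Algebra A C := (ρ.comp (algebraMap A B)).toAlgebra
  haveI : IsScalarTower A B C := .of_algebraMap_eq fun _ => rfl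
  have hsmul : ∀ (a : A) b, δ (a • b) = a • δ b := fun a b => by
    rw [Algebra.smul_def a b, hmul, hA, mul_zero, add_zero, Algebra.smul_def]
    rfl
  let L : B →ₗ[A] C := { δ with map_smul' := hsmul }
  have h1 : L 1 = 0 := by
    change δ 1 = 0
    simpa using hA 1
  let d : Derivation A B C :=
    { toLinearMap := L
      map_one_eq_zero' := h1
      leibniz' := fun b b' => by
        change δ (b * b') = b • δ b' + b' • δ b
        rw [hmul, Algebra.smul_def, Algebra.smul_def]
        rfl }
  obtain ⟨l, hl⟩ := (KaehlerDifferential.linearMapEquivDerivation A B).surjective d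
  have : d = 0 := by
    rw [← hl, Subsingleton.elim l 0, map_zero]
  exact AddMonoidHom.ext fun b => congrArg (fun D : Derivation A B C => D b) this

/-- Derivations extend along formally smooth maps. -/
theorem exists_der [Algebra A B] [Algebra.FormallySmooth A B] (θ : Derivation ℤ A A) :
    ∃ d : B →+ B, (∀ b b', d (b * b') = b * d b' + b' * d b) ∧
      ∀ a, d (algebraMap A B a) = algebraMap A B (θ a) := by
  let φ := algebraMap A B
  let g : A →+* TrivSqZeroExt B B :=
    { toFun := fun a => TrivSqZeroExt.inl (φ a) + TrivSqZeroExt.inr (φ (θ a))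
      map_one' := by ext <;> simp
      map_mul' := fun a b => by
        ext
        · simp
        · simp [TrivSqZeroExt.snd_mul, Derivation.leibniz]
          ring
      map_zero' := by ext <;> simp
      map_add' := fun a b => by ext <;> simp }
  letI : Algebra A (TrivSqZeroExt B B) := g.toAlgebra
  let q : TrivSqZeroExt B B →ₐ[A] B :=
    { toRingHom := (TrivSqZeroExt.fstHom B B B).toRingHom
      commutes' := fun a => by simp [RingHom.algebraMap_toAlgebra, g, φ] }
  have hq : Function.Surjective q := fun b => ⟨TrivSqZeroExt.inl b, by simp [q]⟩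
  have hker : IsNilpotent (RingHom.ker (q : TrivSqZeroExt B B →+* B)) := by
    refine ⟨2, ?_⟩
    rw [Submodule.pow_succ, Submodule.pow_one]
    rw [Submodule.zero_eq_bot, eq_bot_iff, Ideal.mul_le]
    intro x hx y hy
    have hx' : x.fst = 0 := hx
    have hy' : y.fst = 0 := hy
    rw [Ideal.mem_bot]
    ext <;> simp [TrivSqZeroExt.snd_mul, hx', hy']
  let l := Algebra.FormallySmooth.liftOfSurjective (AlgHom.id A B) q hq hker
  have hl : ∀ b, (l b).fst = b := fun b =>
    Algebra.FormallySmooth.liftOfSurjective_apply (AlgHom.id A B) q hq hker b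
  refine ⟨{ toFun := fun b => (l b).snd, map_zero' := by simp, map_add' := fun b b' => by simp },
    fun b b' => ?_, fun a => ?_⟩
  · simp [TrivSqZeroExt.snd_mul, hl]
    ring
  · change (l (algebraMap A B a)).snd = _
    rw [AlgHom.commutes]
    simp [RingHom.algebraMap_toAlgebra, g, φ]

end Ring

section Scheme

variable {A : Type u} [CommRing A] {V : Scheme.{u}} (f : V ⟶ Spec (CommRingCat.of A)) [Etale f]

/-- The structure maps. -/
def toOpen (U : V.Opens) : A →+* Γ(V, U) :=
  (f.appLE ⊤ U le_top).hom.comp (Scheme.ΓSpecIso (CommRingCat.of A)).inv.hom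

omit [Etale f] in
lemma toOpen_res {U U' : V.Opens} (h : U' ≤ U) (a : A) :
    (V.presheaf.map (homOfLE h).op).hom (toOpen f U a) = toOpen f U' a :=
  ConcreteCategory.congr_hom (f.appLE_map le_top (homOfLE h).op) _

omit [Etale f] in
lemma resTop_toGlobal (U : V.Opens) (a : A) :
    Coh.resTop V (op U) (Coh.toGlobal f a) = toOpen f U a := rfl

lemma etale_toOpen {U : V.Opens} (hU : IsAffineOpen U) : (toOpen f U).Etale := by
  have h1 : (f.appLE ⊤ U le_top).hom.Etale := f.etale_appLE (isAffineOpen_top _) hU le_top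
  have h2 : (Scheme.ΓSpecIso (CommRingCat.of A)).inv.hom.Etale :=
    RingHom.Etale.of_bijective (ConcreteCategory.bijective_of_isIso (Scheme.ΓSpecIso (CommRingCat.of A)).inv)
  exact RingHom.Etale.stableUnderComposition _ _ h2 h1

/-- The abelian sheaf of functions. -/
abbrev O (V : Scheme.{u}) : Sheaf (Opens.grothendieckTopology V) AddCommGrpCat.{u} :=
  Coh.toAb (Coh.structureModule V)

/-- A derivation of the base acts on the structure sheaf. -/
theorem exists_sheafDer (θ : Derivation ℤ A A) :
    ∃ D : O V ⟶ O V, ∀ a : A,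
      Coh.smulAb (Coh.structureModule V) (Coh.toGlobal f a) ≫ D =
        Coh.smulAb (Coh.structureModule V) (Coh.toGlobal f (θ a)) +
          D ≫ Coh.smulAb (Coh.structureModule V) (Coh.toGlobal f a) := by
  have key : ∀ i : V.affineOpens, ∃ d : Γ(V, i.1) →+ Γ(V, i.1),
      (∀ b b', d (b * b') = b * d b' + b' * d b) ∧
        ∀ a, d (toOpen f i.1 a) = toOpen f i.1 (θ a) := fun i => by
    letI := (toOpen f i.1).toAlgebra
    haveI : Algebra.Etale A Γ(V, i.1) := RingHom.etale_algebraMap.mp (etale_toOpen f i.2)
    exact exists_der θ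
  choose d hd hdA using key
  let B : V.affineOpens → V.Opens := fun i => i.1
  have hB : Opens.IsBasis (Set.range B) := by
    have := V.isBasis_affineOpens
    rwa [show Set.range B = V.affineOpens from Subtype.range_val]
  let α : (inducedFunctor B).op ⋙ (O V).obj ⟶ (inducedFunctor B).op ⋙ (O V).obj :=
    { app := fun i => AddCommGrpCat.ofHom (d i.unop)
      naturality := fun i j g => by
        have h : B j.unop ≤ B i.unop := g.unop.hom.le
        let ρ : Γ(V, i.unop.1) →+* Γ(V, j.unop.1) := (V.presheaf.map (homOfLE h).op).hom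
        have hz : ((d j.unop).comp ρ.toAddMonoidHom - ρ.toAddMonoidHom.comp (d i.unop)) = 0 := by
          letI := (toOpen f i.unop.1).toAlgebra
          haveI : Algebra.Etale A Γ(V, i.unop.1) := RingHom.etale_algebraMap.mp (etale_toOpen f i.unop.2)
          refine eq_zero (A := A) ρ _ (fun b b' => ?_) fun a => ?_
          · simp [hd]
            ring
          · change d j.unop (ρ (toOpen f _ a)) - ρ (d i.unop (toOpen f _ a)) = 0
            rw [hdA, toOpen_res f h, toOpen_res f h, hdA, sub_self]
        refine AddCommGrpCat.ext fun x => ?_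
        exact sub_eq_zero.mp (congrArg (fun t : Γ(V, i.unop.1) →+ Γ(V, j.unop.1) => t x) hz) }
  let D₀ := TopCat.Sheaf.restrictHomEquivHom (O V).obj (O V) hB α
  refine ⟨⟨D₀⟩, fun a => ObjectProperty.hom_ext _ (TopCat.Sheaf.hom_ext (O V).obj (O V) hB fun i => ?_)⟩
  have hD : D₀.app (op (B i)) = α.app (op i) := TopCat.Sheaf.extend_hom_app _ _ hB α i
  refine AddCommGrpCat.ext fun x => ?_
  let y : Γ(V, i.1) := x
  have e : ∀ z, (D₀.app (op (B i))).hom z = d i z := fun z => by rw [hD]; rfl
  refine (e (toOpen f i.1 a * y : Γ(V, i.1))).trans ?_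
  refine Eq.trans ?_ (congrArg (fun w : Γ(V, i.1) => toOpen f i.1 (θ a) * y + toOpen f i.1 a * w) (e y).symm)
  rw [hd, hdA, mul_comm y, add_comm]

lemma H_map_aux {F : Sheaf (Opens.grothendieckTopology V) AddCommGrpCat.{u}} (m m' D : F ⟶ F)
    (h : m ≫ D = m' + D ≫ m) (n : ℕ) (ξ : Sheaf.H F n) :
    Sheaf.H.map D n (Sheaf.H.map m n ξ) = Sheaf.H.map m' n ξ + Sheaf.H.map m n (Sheaf.H.map D n ξ) := by
  rw [← Sheaf.H.map_comp_apply, ← Sheaf.H.map_comp_apply, h, Sheaf.H.map_add_apply]

/-- A derivation of the base acts on cohomology. -/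
theorem exists_operator (θ : Derivation ℤ A A) (n : ℕ) :
    ∃ D : Coh.HH V (Coh.structureModule V) n →+ Coh.HH V (Coh.structureModule V) n,
      ∀ (a : A) (ξ : Coh.HH V (Coh.structureModule V) n),
        D (Coh.toGlobal f a • ξ) = Coh.toGlobal f (θ a) • ξ + Coh.toGlobal f a • D ξ :=
  let ⟨D, hD⟩ := exists_sheafDer f θ
  ⟨Sheaf.H.map D n, fun a ξ => H_map_aux _ _ D (hD a) n ξ⟩

end Scheme

end Groth.Agent.Lib.DerOp51
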